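import Groth.Agent.EtShLib.TorsionOk
import Mathlib.Algebra.Module.LocalizedModule.Basic

/-!
# Localisations of sheaves at integers and their cohomology
-/

set_option autoImplicit false
set_option linter.unusedSectionVars false
set_option linter.style.haveILetI false
set_option backward.isDefEq.respectTransparency false
set_option backward.isDefEq.respectTransparency.types false
set_option synthInstance.maxHeartbeats 400000
set_option maxHeartbeats 1000000

universe u

open CategoryTheory CategoryTheory.Limits AlgebraicGeometry Opposite CategoryTheory.Abelian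
open Groth.Agent.EtShLib

noncomputable section

namespace EtZLocLib

variable {X : Scheme.{u}} (S : Submonoid ℤ)

/-- The absolute values of `S`. -/
def okS (m : ℕ) : Prop := ∃ s ∈ S, s.natAbs = m

theorem okSet : OkSet (okS S) :=
  ⟨⟨1, S.one_mem, rfl⟩, fun {a b} ⟨s, hs, ha⟩ ⟨t, ht, hb⟩ => ⟨s * t, S.mul_mem hs ht, by rw [Int.natAbs_mul, ha, hb]⟩⟩

theorem exists_zsmul {M : Type*} [AddCommGroup M] {m : ℕ} (hm : okS S m) {x : M} (hx : m • x = 0) :
    ∃ s ∈ S, s • x = 0 := by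
  obtain ⟨s, hs, rfl⟩ := hm
  refine ⟨s, hs, ?_⟩
  rcases Int.natAbs_eq s with e | e
  · rw [show s • x = (s.natAbs : ℤ) • x from congrArg (· • x) e, natCast_zsmul, hx]
  · rw [show s • x = (-(s.natAbs : ℤ)) • x from congrArg (· • x) e, neg_smul, natCast_zsmul, hx, neg_zero]

theorem okS_nsmul {M : Type*} [AddCommGroup M] {s : ℤ} {x : M} (hx : s • x = 0) : s.natAbs • x = 0 := by
  rcases Int.natAbs_eq s with e | e
  · rw [← natCast_zsmul]
    exact (congrArg (· • x) e).symm.trans hx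
  · rw [← neg_eq_zero, ← natCast_zsmul, ← neg_smul]
    exact (congrArg (· • x) e).symm.trans hx

theorem exists_nsmul_H [CompactSpace X] [QuasiSeparatedSpace X] {F : EtCoh.Ab X} (hF : TorsionBy (okS S) F) (n : ℕ)
    (x : EtCoh.H X F n) : ∃ m, okS S m ∧ m • x = 0 := by
  obtain ⟨R⟩ := exists_sectRep_constZ X
  exact exists_ok_nsmul_ext R ⟨‹CompactSpace X›, ‹QuasiSeparatedSpace X›⟩ (okSet S) hF n x

theorem app_zsmul {F G : EtCoh.Ab X} (φ : F ⟶ G) (n : ℤ) (U : X.Etaleᵒᵖ) (x : F.obj.obj U) :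
    (n • φ).hom.app U x = n • φ.hom.app U x :=
  congrArg (fun t : AddMonoidHom _ _ => t x) (map_zsmul (AddMonoidHom.mk'
    (fun ψ : F ⟶ G => (ψ.hom.app U).hom) fun _ _ => rfl) n φ)

theorem map_zsmul_id {F : EtCoh.Ab X} (n : ℤ) (i : ℕ) (x : EtCoh.H X F i) : Sheaf.H.map (n • 𝟙 F) i x = n • x :=
  (congrArg (fun t : AddMonoidHom _ _ => t x) (map_zsmul (AddMonoidHom.mk'
    (fun ψ : F ⟶ F => Sheaf.H.map ψ i) fun a b => AddMonoidHom.ext fun y => Sheaf.H.map_add_apply a b y) n (𝟙 F))).trans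
    (congrArg (n • ·) (Sheaf.H.map_id_apply x))

variable {F G : EtCoh.Ab X} (φ : F ⟶ G)
  (hφ : ∀ U : X.Etale, IsAffine U.left → IsLocalizedModule S (φ.hom.app (op U)).hom.toIntLinearMap)

include hφ

theorem isIso_zsmul {s : ℤ} (hs : s ∈ S) : IsIso (s • 𝟙 G) := by
  have hbij : ∀ U : X.Etale, IsAffine U.left → Function.Bijective fun z : G.obj.obj (op U) => s • z := fun U hU =>
    haveI := hφ U hU
    (Module.End.isUnit_iff _).1 (IsLocalizedModule.map_units (φ.hom.app (op U)).hom.toIntLinearMap ⟨s, hs⟩)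
  refine isIso_of_stalks (A := AddCommGrpCat.{u + 1}) _ fun Ω _ _ ξ => ?_
  rw [ConcreteCategory.isIso_iff_bijective]
  refine ⟨(injective_iff_map_eq_zero ((stk (A := AddCommGrpCat.{u + 1}) ξ).map (s • 𝟙 G)).hom).2 fun p hp => ?_, fun p => ?_⟩
  · obtain ⟨U, u, x, rfl⟩ := exists_germ (A := AddCommGrpCat.{u + 1}) ξ p
    change (stk (A := AddCommGrpCat.{u + 1}) ξ).map (s • 𝟙 G) (germ (A := AddCommGrpCat.{u + 1}) ξ G U u x) = 0 at hp
    rw [germ_natural_apply] at hp
    obtain ⟨V, g, v, hv, he⟩ := (germ_eq_iff (A := AddCommGrpCat.{u + 1}) ξ U u _ 0).1 (hp.trans (map_zero _).symm)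
    obtain ⟨W, g', w, hW, hw⟩ := exists_affine_below' ξ V v
    rw [← hv, ← hw, ← germ_res_apply, ← germ_res_apply]
    suffices h : G.obj.map g'.op (G.obj.map g.op x) = 0 by rw [h, map_zero]
    refine (hbij W hW).1 ?_
    show s • _ = s • (0 : G.obj.obj (op W))
    rw [smul_zero, ← map_zsmul, ← map_zsmul]
    rw [app_zsmul] at he
    have he' : G.obj.map g.op (s • x) = 0 := by
      refine Eq.trans ?_ (he.trans (map_zero _))
      rfl
    rw [he', map_zero]
  · obtain ⟨U, u, x, rfl⟩ := exists_germ (A := AddCommGrpCat.{u + 1}) ξ p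
    obtain ⟨W, g, w, hW, rfl⟩ := exists_affine_below' ξ U u
    rw [← germ_res_apply]
    obtain ⟨y, hy⟩ := (hbij W hW).2 (G.obj.map g.op x)
    refine ⟨germ (A := AddCommGrpCat.{u + 1}) ξ G W w y, ?_⟩
    rw [germ_natural_apply, app_zsmul]
    exact congrArg _ hy

theorem torsionBy_kernel : TorsionBy (okS S) (kernel φ) := by
  intro Ω _ _ ξ p
  obtain ⟨U, u, a, rfl⟩ := exists_germ (A := AddCommGrpCat.{u + 1}) ξ p
  obtain ⟨W, g, w, hW, rfl⟩ := exists_affine_below' ξ U u
  rw [← germ_res_apply]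
  generalize (kernel φ).obj.map g.op a = b
  haveI := hφ W hW
  have h0 : (φ.hom.app (op W)).hom.toIntLinearMap ((kernel.ι φ).hom.app (op W) b) =
      (φ.hom.app (op W)).hom.toIntLinearMap 0 := by
    rw [map_zero]
    exact congrArg (fun t : kernel φ ⟶ G => t.hom.app (op W) b) (kernel.condition φ)
  obtain ⟨c, hc⟩ := IsLocalizedModule.exists_of_eq (S := S) h0
  refine ⟨c.1.natAbs, ⟨c.1, c.2, rfl⟩, okS_nsmul ?_⟩
  refine (AddCommGrpCat.mono_iff_injective _).1
    ((mono_iff_stalks (A := AddCommGrpCat.{u + 1}) (kernel.ι φ)).1 inferInstance Ω ξ) ?_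
  rw [map_zsmul, map_zero, germ_natural_apply, ← map_zsmul]
  rw [Submonoid.smul_def, smul_zero] at hc
  exact (congrArg (germ (A := AddCommGrpCat.{u + 1}) ξ F W w) hc).trans (map_zero _)

theorem torsionBy_cokernel : TorsionBy (okS S) (cokernel φ) := by
  intro Ω _ _ ξ p
  obtain ⟨q, rfl⟩ := (AddCommGrpCat.epi_iff_surjective _).1
    ((epi_iff_stalks (A := AddCommGrpCat.{u + 1}) (cokernel.π φ)).1 inferInstance Ω ξ) p
  obtain ⟨U, u, a, rfl⟩ := exists_germ (A := AddCommGrpCat.{u + 1}) ξ q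
  obtain ⟨W, g, w, hW, rfl⟩ := exists_affine_below' ξ U u
  rw [← germ_res_apply]
  generalize G.obj.map g.op a = b
  haveI := hφ W hW
  obtain ⟨⟨f, c⟩, hc⟩ := IsLocalizedModule.surj S (φ.hom.app (op W)).hom.toIntLinearMap b
  refine ⟨c.1.natAbs, ⟨c.1, c.2, rfl⟩, okS_nsmul ?_⟩
  rw [← map_zsmul, ← map_zsmul]
  change c.1 • b = φ.hom.app (op W) f at hc
  rw [hc, germ_natural_apply]
  refine (congrArg (germ (A := AddCommGrpCat.{u + 1}) ξ (cokernel φ) W w)
    (congrArg (fun t : F ⟶ cokernel φ => t.hom.app (op W) f) (cokernel.condition φ))).trans (map_zero _)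

theorem isLocalizedModule_H [CompactSpace X] [QuasiSeparatedSpace X] (i : ℕ) :
    IsLocalizedModule S ((EtCoh.HF X i).map φ).hom.toIntLinearMap := by
  let S₁ : ShortComplex (EtCoh.Ab X) := ShortComplex.mk (kernel.ι φ) (Abelian.factorThruImage φ)
    (by rw [← cancel_mono (Abelian.image.ι φ), Category.assoc, Abelian.image.fac, kernel.condition, zero_comp])
  have hS₁ : S₁.ShortExact :=
    { exact := ShortComplex.exact_of_f_is_kernel _ (KernelFork.IsLimit.ofι' _ _ fun {W} k hk =>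
        ⟨kernel.lift φ k (by
          change k ≫ Abelian.factorThruImage φ = 0 at hk
          rw [← Abelian.image.fac φ, ← Category.assoc, hk, zero_comp]), kernel.lift_ι _ _ _⟩)
      mono_f := inferInstanceAs (Mono (kernel.ι φ))
      epi_g := inferInstanceAs (Epi (Abelian.factorThruImage φ)) }
  let S₂ : ShortComplex (EtCoh.Ab X) := ShortComplex.mk (Abelian.image.ι φ) (cokernel.π φ) (kernel.condition _)
  have hS₂ : S₂.ShortExact :=
    { exact := ShortComplex.exact_of_f_is_kernel _ (kernelIsKernel _)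
      mono_f := inferInstanceAs (Mono (Abelian.image.ι φ))
      epi_g := inferInstanceAs (Epi (cokernel.π φ)) }
  have hfac : ∀ x, Sheaf.H.map φ i x = Sheaf.H.map S₂.f i (Sheaf.H.map S₁.g i x) := fun x => by
    rw [← Sheaf.H.map_comp_apply]
    exact congrArg (fun t => Sheaf.H.map t i x) (Abelian.image.fac φ).symm
  have hK := torsionBy_kernel S φ hφ
  have hQ := torsionBy_cokernel S φ hφ
  refine { map_units := fun s => ?_, surj := fun y => ?_, exists_of_eq := fun {x y} hxy => ?_ }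
  · rw [Module.End.isUnit_iff]
    haveI := isIso_zsmul S φ hφ s.2
    have h : (⇑(algebraMap ℤ (Module.End ℤ ((EtCoh.HF X i).obj G)) s) : EtCoh.H X G i → EtCoh.H X G i) =
        Sheaf.H.map ((s : ℤ) • 𝟙 G) i := funext fun z => (map_zsmul_id (s : ℤ) i z).symm
    rw [h]
    exact Function.bijective_iff_has_inverse.2 ⟨Sheaf.H.map (inv ((s : ℤ) • 𝟙 G)) i,
      fun z => by rw [← Sheaf.H.map_comp_apply, IsIso.hom_inv_id, Sheaf.H.map_id_apply],
      fun z => by rw [← Sheaf.H.map_comp_apply, IsIso.inv_hom_id, Sheaf.H.map_id_apply]⟩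
  · obtain ⟨m, hm, hmy⟩ := exists_nsmul_H S hQ i (Sheaf.H.map S₂.g i y)
    obtain ⟨s, hs, hsy⟩ := exists_zsmul S hm hmy
    obtain ⟨w, hw⟩ := Ext.covariant_sequence_exact₂ _ hS₂ (s • y : EtCoh.H X G i) (by
      show Sheaf.H.map S₂.g i (s • y) = 0
      rw [map_zsmul, hsy])
    obtain ⟨m', hm', hm'y⟩ := exists_nsmul_H S hK (i + 1) (Ext.comp w hS₁.extClass rfl)
    obtain ⟨t, ht, hty⟩ := exists_zsmul S hm' hm'y
    obtain ⟨x, hx⟩ := Ext.covariant_sequence_exact₃ _ hS₁ (t • w : EtCoh.H X S₁.X₃ i) rfl (by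
      refine Eq.trans ?_ hty
      exact map_zsmul (hS₁.extClass.postcomp _ rfl) t w)
    refine ⟨(x, ⟨t * s, S.mul_mem ht hs⟩), ?_⟩
    show (t * s) • y = Sheaf.H.map φ i x
    rw [hfac, show Sheaf.H.map S₁.g i x = t • w from hx, map_zsmul, show Sheaf.H.map S₂.f i w = s • y from hw, smul_smul]
  · suffices h : ∀ z : EtCoh.H X F i, Sheaf.H.map φ i z = 0 → ∃ c : S, (c : ℤ) • z = 0 by
      obtain ⟨c, hc⟩ := h (x - y) (by rw [map_sub]; exact sub_eq_zero.2 hxy)
      exact ⟨c, sub_eq_zero.1 (by rw [Submonoid.smul_def, Submonoid.smul_def, ← smul_sub]; exact hc)⟩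
    intro z hz
    rw [hfac] at hz
    obtain ⟨s, hs, hsz⟩ : ∃ s ∈ S, s • Sheaf.H.map S₁.g i z = 0 := by
      cases i with
      | zero =>
        haveI := hS₂.mono_f
        refine ⟨1, S.one_mem, ?_⟩
        obtain ⟨g, hg⟩ := Ext.addEquiv₀.symm.surjective (Sheaf.H.map S₁.g 0 z)
        rw [one_smul, ← hg]
        rw [← hg] at hz
        have : g ≫ S₂.f = 0 := Ext.addEquiv₀.symm.injective (by
          rw [map_zero]
          exact (Ext.mk₀_comp_mk₀ g S₂.f).symm.trans hz)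
        rw [show g = 0 from (cancel_mono S₂.f).1 (this.trans zero_comp.symm), map_zero]
      | succ r =>
        obtain ⟨q, hq⟩ := Ext.covariant_sequence_exact₁ _ hS₂ (Sheaf.H.map S₁.g (r + 1) z) hz (n₀ := r) rfl
        obtain ⟨m, hm, hmq⟩ := exists_nsmul_H S hQ r q
        obtain ⟨s, hs, hsq⟩ := exists_zsmul S hm hmq
        refine ⟨s, hs, ?_⟩
        rw [← hq]
        exact ((map_zsmul (hS₂.extClass.postcomp _ rfl) s q).symm.trans (congrArg _ hsq)).trans (map_zero _)
    obtain ⟨k, hk⟩ := Ext.covariant_sequence_exact₂ _ hS₁ (s • z : EtCoh.H X F i) (by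
      show Sheaf.H.map S₁.g i (s • z) = 0
      rw [map_zsmul, hsz])
    obtain ⟨m', hm', hm'k⟩ := exists_nsmul_H S hK i k
    obtain ⟨t, ht, htk⟩ := exists_zsmul S hm' hm'k
    refine ⟨⟨t * s, S.mul_mem ht hs⟩, ?_⟩
    show (t * s) • z = 0
    rw [mul_smul, show s • z = Sheaf.H.map S₁.f i k from hk.symm, ← map_zsmul, htk, map_zero]

end EtZLocLib
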